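import Cfsg.Agent.H836.CX.Base

/-!
# TEAM CX (S5242), piece A1: norms and sums of equivariant functions
-/

set_option autoImplicit false

open MulAction Cfsg.Agent.H836.CX

namespace Cfsg.Agent.H161.CX

section Basic

variable {N : Type*} [Group N] {D : Type*} [AddCommGroup D] [DistribMulAction N D]

theorem out_smul (P R : Subgroup N) (z : D) (hz : ∀ g ∈ R, g • z = z) (g : P) :
    ((Quotient.out (g : P ⧸ R.subgroupOf P) : P) : N) • z = (g : N) • z := by
  obtain ⟨⟨h, hh⟩, he⟩ := QuotientGroup.mk_out_eq_mul (R.subgroupOf P) g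
  rw [he]
  have h1 : (h : N) • z = z := hz _ (Subgroup.mem_subgroupOf.mp hh)
  simp only [Subgroup.coe_mul]
  rw [mul_smul, h1]

/-- the norm of a fixed element is a sum over an orbit -/
theorem nm_orbit' {ι : Type*} [MulAction N ι] (P : Subgroup N) (w : ι) (c : ι → D)
    (hc : ∀ g ∈ P, c (g • w) = g • c w) :
    ∑ᶠ v ∈ {v : ι | ∃ h ∈ P, v = h • w}, c v = nm P (P ⊓ stabilizer N w) (c w) := by
  have hz : ∀ g ∈ P ⊓ stabilizer N w, g • w = w := by
    rintro g ⟨hg, hs⟩
    exact mem_stabilizer_iff.mp hs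
  unfold nm
  rw [← finsum_mem_univ (fun q : P ⧸ (P ⊓ stabilizer N w).subgroupOf P => ((Quotient.out q : P) : N) • c w)]
  symm
  refine finsum_mem_eq_of_bijOn (fun q => ((Quotient.out q : P) : N) • w) ⟨?_, ?_, ?_⟩ ?_
  · intro q _
    exact ⟨_, (Quotient.out q : P).2, rfl⟩
  · intro q _ q' _ h
    have h : ((Quotient.out q : P) : N) • w = ((Quotient.out q' : P) : N) • w := h
    rw [← QuotientGroup.out_eq' q, ← QuotientGroup.out_eq' q']
    apply QuotientGroup.eq.mpr
    rw [Subgroup.mem_subgroupOf, Subgroup.mem_inf]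
    refine ⟨SetLike.coe_mem _, ?_⟩
    rw [mem_stabilizer_iff]
    simp only [Subgroup.coe_mul, Subgroup.coe_inv]
    rw [mul_smul, ← h, inv_smul_smul]
  · rintro v ⟨h, hh, rfl⟩
    refine ⟨((⟨h, hh⟩ : P) : P ⧸ _), trivial, ?_⟩
    obtain ⟨⟨r, hr⟩, he⟩ := QuotientGroup.mk_out_eq_mul ((P ⊓ stabilizer N w).subgroupOf P) ⟨h, hh⟩
    have h1 : (r : N) • w = w := hz _ (Subgroup.mem_subgroupOf.mp hr)
    show ((Quotient.out ((⟨h, hh⟩ : P) : P ⧸ (P ⊓ stabilizer N w).subgroupOf P) : P) : N) • w = h • w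
    rw [he]
    simp only [Subgroup.coe_mul]
    rw [mul_smul, h1]
  · intro q _
    exact (hc _ (Quotient.out q : P).2).symm

/-- same, for a set `S` which is the orbit -/
theorem nm_of_orbit {ι : Type*} [MulAction N ι] (P R : Subgroup N) (w : ι) (c : ι → D) (S : Set ι)
    (hS : S = {v : ι | ∃ h ∈ P, v = h • w}) (hR : R = P ⊓ stabilizer N w)
    (hc : ∀ g ∈ P, c (g • w) = g • c w) : ∑ᶠ v ∈ S, c v = nm P R (c w) := by
  subst hS hR
  exact nm_orbit' P w c hc

/-- for a finite set -/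
theorem nm_of_orbit_fin {ι : Type*} [MulAction N ι] (P R : Subgroup N) (w : ι) (c : ι → D) (S : Finset ι)
    (hS : ∀ v, v ∈ S ↔ ∃ h ∈ P, v = h • w) (hR : R = P ⊓ stabilizer N w)
    (hc : ∀ g ∈ P, c (g • w) = g • c w) : ∑ v ∈ S, c v = nm P R (c w) := by
  rw [← nm_of_orbit P R w c (S : Set ι) (by ext v; simp only [Finset.mem_coe, hS, Set.mem_ofPred_eq]) hR hc,
    finsum_mem_coe_finset]

theorem nm_zero (P R : Subgroup N) : nm P R (0 : D) = 0 := by
  unfold nm
  simp only [smul_zero, finsum_zero]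

/-- the function `g R ↦ g z` on `N / R` -/
noncomputable def cf (R : Subgroup N) (z : D) (q : N ⧸ R) : D := (Quotient.out q : N) • z

theorem cf_mk (R : Subgroup N) (z : D) (hz : ∀ g ∈ R, g • z = z) (g : N) : cf R z (g : N ⧸ R) = g • z := by
  obtain ⟨⟨h, hh⟩, he⟩ := QuotientGroup.mk_out_eq_mul R g
  unfold cf
  rw [he, mul_smul]
  congr 1
  exact hz h hh

theorem cf_smul (R : Subgroup N) (z : D) (hz : ∀ g ∈ R, g • z = z) (g : N) (q : N ⧸ R) :
    cf R z (g • q) = g • cf R z q := by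
  induction q using QuotientGroup.induction_on with
  | H x =>
    rw [MulAction.Quotient.smul_coe, cf_mk R z hz, cf_mk R z hz, smul_eq_mul, mul_smul]

/-- the stabiliser of the coset `g R` -/
theorem stab_mk (R : Subgroup N) (g : N) :
    stabilizer N (g : N ⧸ R) = R.map (MulAut.conj g).toMonoidHom := by
  ext x
  rw [mem_stabilizer_iff, MulAction.Quotient.smul_coe, smul_eq_mul]
  constructor
  · intro h
    refine ⟨g⁻¹ * x * g, ?_, ?_⟩
    · have := QuotientGroup.eq.mp h.symm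
      rw [← mul_assoc] at this
      exact this
    · simp [MulAut.conj_apply, mul_assoc]
  · rintro ⟨r, hr, rfl⟩
    apply Eq.symm
    apply QuotientGroup.eq.mpr
    have : g⁻¹ * ((MulAut.conj g).toMonoidHom r * g) = r := by simp [MulAut.conj_apply, mul_assoc]
    rw [this]
    exact hr

theorem nm_eq_cf (P R : Subgroup N) (hRP : R ≤ P) (z : D) (hz : ∀ g ∈ R, g • z = z) :
    ∑ᶠ v ∈ {v : N ⧸ R | ∃ h ∈ P, v = (h : N ⧸ R)}, cf R z v = nm P R z := by
  have h1 : cf R z ((1 : N) : N ⧸ R) = z := by rw [cf_mk R z hz, one_smul]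
  have := nm_of_orbit P R ((1 : N) : N ⧸ R) (cf R z) {v : N ⧸ R | ∃ h ∈ P, v = (h : N ⧸ R)} (by
    ext v
    simp only [Set.mem_ofPred_eq, MulAction.Quotient.smul_coe, smul_eq_mul, mul_one]) (by
    rw [stab_mk]
    ext x
    rw [Subgroup.mem_inf]
    constructor
    · intro hx
      exact ⟨hRP hx, x, hx, by simp⟩
    · rintro ⟨_, y, hy, rfl⟩
      simpa using hy) (fun g _ => cf_smul R z hz g _)
  rw [this, h1]

end Basic

section Fin

variable {N : Type*} [Group N] [Finite N] {D : Type*} [AddCommGroup D] [DistribMulAction N D]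

omit [Finite N] in
/-- `nm` as a finite sum over the cosets of `R` in `P` -/
theorem nm_eq_sum (P R : Subgroup N) [Fintype (P ⧸ R.subgroupOf P)] (z : D) :
    nm P R z = ∑ q : P ⧸ R.subgroupOf P, ((Quotient.out q : P) : N) • z := by
  unfold nm
  exact finsum_eq_sum_of_fintype _

theorem nm_add (P R : Subgroup N) (z z' : D) : nm P R (z + z') = nm P R z + nm P R z' := by
  have := Fintype.ofFinite (P ⧸ R.subgroupOf P)
  simp only [nm_eq_sum, smul_add, Finset.sum_add_distrib]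

/-- the norm as a homomorphism -/
noncomputable def nmHom (P R : Subgroup N) : D →+ D where
  toFun := nm P R
  map_zero' := nm_zero P R
  map_add' := nm_add P R

theorem nmHom_apply (P R : Subgroup N) (z : D) : nmHom P R z = nm P R z := rfl

theorem nm_neg (P R : Subgroup N) (z : D) : nm P R (-z) = -nm P R z := map_neg (nmHom P R) z

theorem nm_sub (P R : Subgroup N) (z z' : D) : nm P R (z - z') = nm P R z - nm P R z' :=
  map_sub (nmHom P R) z z'

theorem nm_nsmul (P R : Subgroup N) (n : ℕ) (z : D) : nm P R (n • z) = n • nm P R z :=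
  map_nsmul (nmHom P R) n z

theorem nm_zsmul (P R : Subgroup N) (n : ℤ) (z : D) : nm P R (n • z) = n • nm P R z :=
  map_zsmul (nmHom P R) n z

theorem nm_sum {ι : Type*} (P R : Subgroup N) (s : Finset ι) (f : ι → D) :
    nm P R (∑ a ∈ s, f a) = ∑ a ∈ s, nm P R (f a) := map_sum (nmHom P R) f s

omit [Finite N] in
/-- the norm of a fixed element is a sum over an orbit -/
theorem nm_orbit {ι : Type*} [MulAction N ι] [Finite ι] (P : Subgroup N) (w : ι) (c : ι → D)
    (hc : ∀ g ∈ P, ∀ v : ι, (∃ h ∈ P, v = h • w) → c (g • v) = g • c v) :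
    ∑ᶠ v ∈ {v : ι | ∃ h ∈ P, v = h • w}, c v = nm P (P ⊓ stabilizer N w) (c w) :=
  nm_orbit' P w c (fun g hg => hc g hg w ⟨1, one_mem _, (one_smul _ _).symm⟩)

omit [Finite N] in
open Classical in
/-- `nm P R z` is a sum over cosets -/
theorem nm_eq_cf_fin [Fintype N] (P R : Subgroup N) (hRP : R ≤ P) (z : D) (hz : ∀ g ∈ R, g • z = z) :
    ∑ v : N ⧸ R with ∃ h ∈ P, v = (h : N ⧸ R), cf R z v = nm P R z := by
  have h1 : cf R z ((1 : N) : N ⧸ R) = z := by rw [cf_mk R z hz, one_smul]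
  have := nm_of_orbit_fin P R ((1 : N) : N ⧸ R) (cf R z)
    (Finset.univ.filter (fun v : N ⧸ R => ∃ h ∈ P, v = (h : N ⧸ R))) (by
    intro v
    simp only [Finset.mem_filter, Finset.mem_univ, true_and, MulAction.Quotient.smul_coe, smul_eq_mul, mul_one]) (by
    rw [stab_mk]
    ext x
    rw [Subgroup.mem_inf]
    constructor
    · intro hx
      exact ⟨hRP hx, x, hx, by simp⟩
    · rintro ⟨_, y, hy, rfl⟩
      simpa using hy) (fun g _ => cf_smul R z hz g _)
  rw [this, h1]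

/-- conjugation -/
theorem nm_conj (P R : Subgroup N) (hRP : R ≤ P) (z : D) (hz : ∀ g ∈ R, g • z = z) (g : N) :
    g • nm P R z = nm (P.map (MulAut.conj g).toMonoidHom) (R.map (MulAut.conj g).toMonoidHom) (g • z) := by
  classical
  have := Fintype.ofFinite N
  rw [← nm_eq_cf_fin P R hRP z hz, Finset.smul_sum]
  have h2 : cf R z ((g : N) : N ⧸ R) = g • z := cf_mk R z hz g
  have := nm_of_orbit_fin (P.map (MulAut.conj g).toMonoidHom) (R.map (MulAut.conj g).toMonoidHom)
    (g : N ⧸ R) (cf R z)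
    (Finset.univ.filter (fun v : N ⧸ R => ∃ h ∈ P, g⁻¹ • v = (h : N ⧸ R))) (by
    intro v
    simp only [Finset.mem_filter, Finset.mem_univ, true_and, MulAction.Quotient.smul_coe, smul_eq_mul]
    constructor
    · rintro ⟨h, hh, he⟩
      refine ⟨g * h * g⁻¹, ⟨h, hh, by simp⟩, ?_⟩
      rw [inv_smul_eq_iff] at he
      rw [he, MulAction.Quotient.smul_coe, smul_eq_mul]
      congr 1
      group
    · rintro ⟨_, ⟨h, hh, rfl⟩, rfl⟩
      refine ⟨h, hh, ?_⟩
      rw [MulAction.Quotient.smul_coe, smul_eq_mul]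
      congr 1
      simp [MulAut.conj_apply, mul_assoc]) (by
    rw [stab_mk]
    rw [right_eq_inf]
    exact Subgroup.map_mono hRP) (fun x _ => cf_smul R z hz x _)
  rw [← h2, ← this]
  refine Finset.sum_bij' (fun v _ => g • v) (fun v _ => g⁻¹ • v) ?_ ?_ ?_ ?_ ?_
  · intro v hv
    simp only [Finset.mem_filter, Finset.mem_univ, true_and] at hv ⊢
    obtain ⟨h, hh, rfl⟩ := hv
    exact ⟨h, hh, inv_smul_smul _ _⟩
  · intro v hv
    simp only [Finset.mem_filter, Finset.mem_univ, true_and] at hv ⊢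
    exact hv
  · intro v _
    exact inv_smul_smul _ _
  · intro v _
    exact smul_inv_smul _ _
  · intro v _
    rw [cf_smul R z hz]

/-- the norm of `z` is fixed by `P` -/
theorem nm_fix (P R : Subgroup N) (hRP : R ≤ P) (z : D) (hz : ∀ g ∈ R, g • z = z) :
    ∀ g ∈ P, g • nm P R z = nm P R z := by
  classical
  have := Fintype.ofFinite N
  intro g hg
  rw [← nm_eq_cf_fin P R hRP z hz, Finset.smul_sum]
  refine Finset.sum_bij' (fun v _ => g • v) (fun v _ => g⁻¹ • v) ?_ ?_ ?_ ?_ ?_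
  · intro v hv
    simp only [Finset.mem_filter, Finset.mem_univ, true_and] at hv ⊢
    obtain ⟨h, hh, rfl⟩ := hv
    exact ⟨g * h, mul_mem hg hh, rfl⟩
  · intro v hv
    simp only [Finset.mem_filter, Finset.mem_univ, true_and] at hv ⊢
    obtain ⟨h, hh, rfl⟩ := hv
    exact ⟨g⁻¹ * h, mul_mem (inv_mem hg) hh, rfl⟩
  · intro v _
    exact inv_smul_smul _ _
  · intro v _
    exact smul_inv_smul _ _
  · intro v _
    rw [cf_smul R z hz]

/-- if `z` is fixed by `P` -/
theorem nm_of_fix (P R : Subgroup N) (_hRP : R ≤ P) (z : D) (hz : ∀ g ∈ P, g • z = z) :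
    nm P R z = R.relIndex P • z := by
  have := Fintype.ofFinite (P ⧸ R.subgroupOf P)
  have h : ∀ q : P ⧸ R.subgroupOf P, ((Quotient.out q : P) : N) • z = z := fun q => hz _ (Quotient.out q : P).2
  rw [nm_eq_sum]
  simp only [h]
  rw [Finset.sum_const, Finset.card_univ, ← Nat.card_eq_fintype_card]
  rfl

/-- transitivity -/
theorem nm_trans (P Q R : Subgroup N) (hRQ : R ≤ Q) (hQP : Q ≤ P) (z : D) (hz : ∀ g ∈ R, g • z = z) :
    nm P R z = nm P Q (nm Q R z) := by
  classical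
  have := Fintype.ofFinite N
  let π : N ⧸ R → N ⧸ Q := Quotient.map' id (fun a b hab => by
    rw [QuotientGroup.leftRel_apply] at hab ⊢
    exact hRQ hab)
  have hπ : ∀ g : N, π (g : N ⧸ R) = (g : N ⧸ Q) := fun g => rfl
  have hπs : ∀ (g : N) (v : N ⧸ R), π (g • v) = g • π v := by
    intro g v
    induction v using QuotientGroup.induction_on with
    | H x => rfl
  rw [← nm_eq_cf_fin P R (hRQ.trans hQP) z hz]
  let c' : N ⧸ Q → D := fun u => ∑ v : N ⧸ R with π v = u, cf R z v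
  have hc' : ∀ (g : N) (u : N ⧸ Q), c' (g • u) = g • c' u := by
    intro g u
    show ∑ v : N ⧸ R with π v = g • u, cf R z v = g • ∑ v : N ⧸ R with π v = u, cf R z v
    rw [Finset.smul_sum]
    refine (Finset.sum_bij' (fun v _ => g • v) (fun v _ => g⁻¹ • v) ?_ ?_ ?_ ?_ ?_).symm
    · intro v hv
      simp only [Finset.mem_filter, Finset.mem_univ, true_and] at hv ⊢
      rw [hπs, hv]
    · intro v hv
      simp only [Finset.mem_filter, Finset.mem_univ, true_and] at hv ⊢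
      rw [hπs, hv, inv_smul_smul]
    · intro v _
      exact inv_smul_smul _ _
    · intro v _
      exact smul_inv_smul _ _
    · intro v _
      rw [cf_smul R z hz]
  have hc1 : c' ((1 : N) : N ⧸ Q) = nm Q R z := by
    rw [← nm_eq_cf_fin Q R hRQ z hz]
    refine Finset.sum_congr ?_ (fun _ _ => rfl)
    ext v
    simp only [Finset.mem_filter, Finset.mem_univ, true_and]
    induction v using QuotientGroup.induction_on with
    | H x =>
      rw [hπ]
      constructor
      · intro h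
        have := QuotientGroup.eq.mp h.symm
        rw [inv_one, one_mul] at this
        exact ⟨x, this, rfl⟩
      · rintro ⟨h, hh, he⟩
        have h3 := QuotientGroup.eq.mp he.symm
        apply Eq.symm
        apply QuotientGroup.eq.mpr
        rw [inv_one, one_mul]
        have h4 := mul_mem hh (hRQ h3)
        rwa [mul_inv_cancel_left] at h4
  rw [← hc1, ← nm_of_orbit_fin P Q ((1 : N) : N ⧸ Q) c'
    (Finset.univ.filter (fun v : N ⧸ Q => ∃ h ∈ P, v = (h : N ⧸ Q))) (by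
    intro v
    simp only [Finset.mem_filter, Finset.mem_univ, true_and, MulAction.Quotient.smul_coe, smul_eq_mul, mul_one]) (by
    rw [stab_mk]
    ext x
    rw [Subgroup.mem_inf]
    constructor
    · intro hx
      exact ⟨hQP hx, x, hx, by simp⟩
    · rintro ⟨_, y, hy, rfl⟩
      simpa using hy) (fun g _ => hc' g _)]
  rw [← Finset.sum_fiberwise_of_maps_to (g := π)
    (t := Finset.univ.filter (fun v : N ⧸ Q => ∃ h ∈ P, v = (h : N ⧸ Q)))]
  · refine Finset.sum_congr rfl (fun u hu => ?_)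
    refine Finset.sum_congr ?_ (fun _ _ => rfl)
    ext v
    simp only [Finset.mem_filter, Finset.mem_univ, true_and] at hu ⊢
    refine ⟨fun h => h.2, fun h => ⟨?_, h⟩⟩
    induction v using QuotientGroup.induction_on with
    | H x =>
      obtain ⟨y, hy, rfl⟩ := hu
      rw [hπ] at h
      have h3 := QuotientGroup.eq.mp h.symm
      have h4 := mul_mem hy (hQP h3)
      rw [mul_inv_cancel_left] at h4
      exact ⟨x, h4, rfl⟩
  · intro v hv
    simp only [Finset.mem_filter, Finset.mem_univ, true_and] at hv ⊢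
    obtain ⟨h, hh, rfl⟩ := hv
    exact ⟨h, hh, rfl⟩

omit [Finite N] in
/-- a sum of an equivariant function over a stable finite set is a sum of norms -/
theorem sum_orbits {ι : Type*} [MulAction N ι] (P : Subgroup N) (c : ι → D) (n : ℕ) : ∀ T : Finset ι,
    T.card ≤ n → (∀ g ∈ P, ∀ w ∈ T, g • w ∈ T) → (∀ g ∈ P, ∀ w ∈ T, c (g • w) = g • c w) →
    ∃ l : List ι, (∀ w ∈ l, w ∈ T) ∧
      ∑ w ∈ T, c w = (l.map (fun w => nm P (P ⊓ stabilizer N w) (c w))).sum := by
  classical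
  induction n with
  | zero =>
    intro T hT _ _
    have : T = ∅ := Finset.card_eq_zero.mp (Nat.le_zero.mp hT)
    subst this
    exact ⟨[], by simp, by simp⟩
  | succ n ih =>
    intro T hTn hT hc
    rcases T.eq_empty_or_nonempty with rfl | ⟨w, hw⟩
    · exact ⟨[], by simp, by simp⟩
    have hsub : ∀ v ∈ T.filter (fun v => ¬ ∃ h ∈ P, v = h • w), v ∈ T := fun v hv => (Finset.mem_filter.mp hv).1
    have hw' : w ∉ T.filter (fun v => ¬ ∃ h ∈ P, v = h • w) := by
      intro h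
      exact (Finset.mem_filter.mp h).2 ⟨1, one_mem _, (one_smul _ _).symm⟩
    have hlt : (T.filter (fun v => ¬ ∃ h ∈ P, v = h • w)).card < T.card :=
      Finset.card_lt_card ⟨hsub, fun h => hw' (h hw)⟩
    obtain ⟨l, hl, hs⟩ := ih (T.filter (fun v => ¬ ∃ h ∈ P, v = h • w)) (by omega) (by
      intro g hg v hv
      rw [Finset.mem_filter] at hv ⊢
      refine ⟨hT g hg v hv.1, ?_⟩
      rintro ⟨h, hh, he⟩
      exact hv.2 ⟨g⁻¹ * h, mul_mem (inv_mem hg) hh, by rw [mul_smul, ← he, inv_smul_smul]⟩)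
      (fun g hg v hv => hc g hg v (hsub v hv))
    refine ⟨w :: l, ?_, ?_⟩
    · intro v hv
      rcases List.mem_cons.mp hv with rfl | hv
      · exact hw
      · exact hsub v (hl v hv)
    · rw [List.map_cons, List.sum_cons, ← hs, ← Finset.sum_filter_add_sum_filter_not T (fun v => ∃ h ∈ P, v = h • w)]
      congr 1
      refine nm_of_orbit_fin P _ w c _ ?_ rfl (fun g hg => hc g hg w hw)
      intro v
      rw [Finset.mem_filter]
      refine ⟨fun h => h.2, ?_⟩
      rintro ⟨h, hh, rfl⟩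
      exact ⟨hT h hh w hw, h, hh, rfl⟩

omit [Finite N] in
/-- a subgroup containing the norms contains the sum -/
theorem sum_mem_of_nm {ι : Type*} [MulAction N ι] (P : Subgroup N) (c : ι → D) (T : Finset ι)
    (hT : ∀ g ∈ P, ∀ w ∈ T, g • w ∈ T) (hc : ∀ g ∈ P, ∀ w ∈ T, c (g • w) = g • c w) (M : AddSubgroup D)
    (hM : ∀ w ∈ T, nm P (P ⊓ stabilizer N w) (c w) ∈ M) : ∑ w ∈ T, c w ∈ M := by
  obtain ⟨l, hl, hs⟩ := sum_orbits P c T.card T le_rfl hT hc
  rw [hs]
  apply AddSubgroup.list_sum_mem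
  intro x hx
  obtain ⟨w, hw, rfl⟩ := List.mem_map.mp hx
  exact hM w (hl w hw)

/-- a subgroup containing the norms from `A ∩ g R g⁻¹` to `A` contains the norm from `R` to `P` -/
theorem nm_mem_of_mackey (P R A : Subgroup N) (hRP : R ≤ P) (hAP : A ≤ P) (z : D) (hz : ∀ g ∈ R, g • z = z)
    (M : AddSubgroup D)
    (h0 : ∀ g ∈ P, nm A (A ⊓ R.map (MulAut.conj g).toMonoidHom) (g • z) ∈ M) : nm P R z ∈ M := by
  classical
  have := Fintype.ofFinite N
  rw [← nm_eq_cf_fin P R hRP z hz]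
  apply sum_mem_of_nm A (cf R z)
  · intro g hg v hv
    simp only [Finset.mem_filter, Finset.mem_univ, true_and] at hv ⊢
    obtain ⟨h, hh, rfl⟩ := hv
    exact ⟨g * h, mul_mem (hAP hg) hh, rfl⟩
  · intro g _ v _
    exact cf_smul R z hz g v
  · intro v hv
    simp only [Finset.mem_filter, Finset.mem_univ, true_and] at hv
    obtain ⟨h, hh, rfl⟩ := hv
    rw [stab_mk, cf_mk R z hz]
    exact h0 h hh

/-- Mackey: if for every `g ∈ P` the norm from `A ∩ g R g⁻¹` to `A` of `g z` is zero then the norm from `R` to `P` is -/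
theorem nm_eq_zero (P R A : Subgroup N) (hRP : R ≤ P) (hAP : A ≤ P) (z : D) (hz : ∀ g ∈ R, g • z = z)
    (h0 : ∀ g ∈ P, nm A (A ⊓ R.map (MulAut.conj g).toMonoidHom) (g • z) = 0) : nm P R z = 0 := by
  have := nm_mem_of_mackey P R A hRP hAP z hz ⊥ (fun g hg => by rw [h0 g hg]; exact zero_mem _)
  exact AddSubgroup.mem_bot.mp this

omit [Finite N] in
/-- sums of equivariant functions -/
theorem sum_mem {Y : Subgroup N} {M : Subgroup N → AddSubgroup D} (hM : SubM Y M) {ι : Type*} [MulAction N ι]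
    (P : Subgroup N) (T : Finset ι) (hT : ∀ g ∈ P, ∀ w ∈ T, g • w ∈ T) (c : ι → D)
    (hc : ∀ g ∈ P, ∀ w ∈ T, c (g • w) = g • c w) (hY : ∀ w ∈ T, Y ≤ P ⊓ stabilizer N w)
    (hm : ∀ w ∈ T, c w ∈ M (P ⊓ stabilizer N w)) (_hYP : Y ≤ P) : ∑ w ∈ T, c w ∈ M P :=
  sum_mem_of_nm P c T hT hc (M P) (fun w hw => hM.norm P _ (hY w hw) inf_le_left _ (hm w hw))

omit [Finite N] in
/-- `R T = T R` when `R` normalises `T` -/
theorem mem_sup_iff (R T : Subgroup N) (hTn : ∀ g ∈ R, ∀ t ∈ T, g * t * g⁻¹ ∈ T) (x : N) :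
    x ∈ R ⊔ T ↔ ∃ t ∈ T, ∃ r ∈ R, x = t * r := by
  constructor
  · intro hx
    let K : Subgroup N :=
      { carrier := {x | ∃ t ∈ T, ∃ r ∈ R, x = t * r}
        one_mem' := ⟨1, one_mem _, 1, one_mem _, by simp⟩
        mul_mem' := by
          rintro _ _ ⟨t, ht, r, hr, rfl⟩ ⟨t', ht', r', hr', rfl⟩
          exact ⟨t * (r * t' * r⁻¹), mul_mem ht (hTn r hr t' ht'), r * r', mul_mem hr hr', by group⟩
        inv_mem' := by
          rintro _ ⟨t, ht, r, hr, rfl⟩
          exact ⟨r⁻¹ * t⁻¹ * r⁻¹⁻¹, hTn _ (inv_mem hr) _ (inv_mem ht), r⁻¹, inv_mem hr, by group⟩ }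
    have h1 : R ≤ K := fun r hr => ⟨1, one_mem _, r, hr, by simp⟩
    have h2 : T ≤ K := fun t ht => ⟨t, ht, 1, one_mem _, by simp⟩
    exact (sup_le h1 h2) hx
  · rintro ⟨t, ht, r, hr, rfl⟩
    exact mul_mem (Subgroup.mem_sup_right ht) (Subgroup.mem_sup_left hr)

/-- the norm from `R` to `R T` is the norm from `R ∩ T` to `T` -/
theorem nm_sup (R T : Subgroup N) (hTn : ∀ g ∈ R, ∀ t ∈ T, g * t * g⁻¹ ∈ T) (z : D) (hz : ∀ g ∈ R, g • z = z) :
    nm (R ⊔ T) R z = nm T (T ⊓ R) z := by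
  classical
  have := Fintype.ofFinite N
  rw [← nm_eq_cf_fin (R ⊔ T) R le_sup_left z hz]
  have h1 : cf R z ((1 : N) : N ⧸ R) = z := by rw [cf_mk R z hz, one_smul]
  have h2 := nm_of_orbit_fin T (T ⊓ R) ((1 : N) : N ⧸ R) (cf R z)
    (Finset.univ.filter (fun v : N ⧸ R => ∃ h ∈ R ⊔ T, v = (h : N ⧸ R))) (by
    intro v
    simp only [Finset.mem_filter, Finset.mem_univ, true_and, MulAction.Quotient.smul_coe, smul_eq_mul, mul_one]
    constructor
    · rintro ⟨x, hx, rfl⟩
      obtain ⟨t, ht, r, hr, rfl⟩ := (mem_sup_iff R T hTn x).mp hx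
      refine ⟨t, ht, ?_⟩
      apply QuotientGroup.eq.mpr
      have : (t * r)⁻¹ * t = r⁻¹ := by group
      rw [this]
      exact inv_mem hr
    · rintro ⟨t, ht, rfl⟩
      exact ⟨t, Subgroup.mem_sup_right ht, rfl⟩) (by
    rw [stab_mk]
    congr 1
    ext x
    constructor
    · intro hx
      exact ⟨x, hx, by simp⟩
    · rintro ⟨y, hy, rfl⟩
      simpa using hy) (fun g _ => cf_smul R z hz g _)
  rw [h2, h1]

omit [Finite N] in
/-- the elements of `P` fix `T` -/
theorem map_conj_eq {P T : Subgroup N} (hTn : ∀ g ∈ P, ∀ t ∈ T, g * t * g⁻¹ ∈ T) (g : N) (hg : g ∈ P) :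
    T.map (MulAut.conj g).toMonoidHom = T := by
  ext x
  constructor
  · rintro ⟨t, ht, rfl⟩
    exact hTn g hg t ht
  · intro hx
    refine ⟨g⁻¹ * x * g⁻¹⁻¹, hTn _ (inv_mem hg) x hx, ?_⟩
    simp [MulAut.conj_apply, mul_assoc]

/-- Mackey for a normal subgroup: `nm P R z` is the sum of `|P : R T|` norms to `T` -/
theorem nm_mackey_card (P R T : Subgroup N) (hRP : R ≤ P) (hTP : T ≤ P) (hTn : ∀ g ∈ P, ∀ t ∈ T, g * t * g⁻¹ ∈ T)
    (z : D) (hz : ∀ g ∈ R, g • z = z) : ∃ (ι : Type) (_ : Fintype ι) (s : ι → N), (∀ a, s a ∈ P) ∧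
      nm P R z = ∑ a, nm T (T ⊓ R.map (MulAut.conj (s a)).toMonoidHom) (s a • z) ∧
      Fintype.card ι = (R ⊔ T).relIndex P := by
  have := Fintype.ofFinite (P ⧸ (R ⊔ T).subgroupOf P)
  let e := (Fintype.equivFin (P ⧸ (R ⊔ T).subgroupOf P)).symm
  refine ⟨Fin (Fintype.card (P ⧸ (R ⊔ T).subgroupOf P)), inferInstance,
    fun a => ((Quotient.out (e a) : P) : N), fun a => (Quotient.out (e a) : P).2, ?_, ?_⟩
  · rw [nm_trans P (R ⊔ T) R le_sup_left (sup_le hRP hTP) z hz, nm_sup R T (fun g hg => hTn g (hRP hg)) z hz,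
      nm_eq_sum, ← Equiv.sum_comp e]
    refine Finset.sum_congr rfl (fun a _ => ?_)
    have hg := (Quotient.out (e a) : P).2
    rw [nm_conj T (T ⊓ R) inf_le_left z (fun g hg => hz g hg.2), map_conj_eq hTn _ hg,
      Subgroup.map_inf T R _ (MulEquiv.injective _), map_conj_eq hTn _ hg]
  · rw [Fintype.card_fin, ← Nat.card_eq_fintype_card]
    rfl

/-- Mackey for a normal subgroup -/
theorem nm_mackey (P R T : Subgroup N) (hRP : R ≤ P) (hTP : T ≤ P) (hTn : ∀ g ∈ P, ∀ t ∈ T, g * t * g⁻¹ ∈ T) (z : D)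
    (hz : ∀ g ∈ R, g • z = z) : ∃ (ι : Type) (_ : Fintype ι) (s : ι → N), (∀ a, s a ∈ P) ∧
      nm P R z = ∑ a, nm T (T ⊓ R.map (MulAut.conj (s a)).toMonoidHom) (s a • z) ∧
      Fintype.card ι * (R ⊔ T).relIndex P = (R ⊔ T).relIndex P * Fintype.card ι := by
  obtain ⟨ι, i, s, h1, h2, _⟩ := nm_mackey_card P R T hRP hTP hTn z hz
  exact ⟨ι, i, s, h1, h2, mul_comm _ _⟩

end Fin

end Cfsg.Agent.H161.CX
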